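import Groth.Agent.ParaExt.Stalks

/-!
# Parafactorial local rings: depth two and trivial Picard group of the punctured spectrum
-/

set_option linter.style.haveILetI false
set_option backward.isDefEq.respectTransparency false
set_option backward.isDefEq.respectTransparency.types false

universe u

open CategoryTheory CategoryTheory.Limits AlgebraicGeometry TopologicalSpace Opposite
open Groth.Agent

noncomputable section

namespace Groth.Agent.ParaExt

theorem depth_localization_maximal (A : Type u) [CommRing A] [IsLocalRing A] :
    LocCoh.depth (Localization.AtPrime (IsLocalRing.closedPoint A).asIdeal)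
        (Localization.AtPrime (IsLocalRing.closedPoint A).asIdeal) = LocCoh.depth A A := by
  let S := (IsLocalRing.closedPoint A).asIdeal.primeCompl
  have hS : S ≤ IsUnit.submonoid A := fun x hx => IsLocalRing.notMem_maximalIdeal.1 hx
  let e := IsLocalization.atUnits A S hS (S := Localization S)
  exact (Alg6.depth_eq_of_semilinear e.toRingEquiv.toRingHom e.surjective e.toRingEquiv.toAddEquiv
    (fun r z => map_mul e r z)).symm

theorem bijective_punctured_iff (A : Type u) [CommRing A] [IsNoetherianRing A] [IsLocalRing A] :
    Function.Bijective ((Spec (CommRingCat.of A)).presheaf.map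
        (homOfLE (le_top : FEt.puncturedSpec A ≤ ⊤)).op) ↔ (2 : ℕ∞) ≤ LocCoh.depth A A := by
  constructor
  · intro hb
    let Z : Set (PrimeSpectrum A) := {IsLocalRing.closedPoint A}
    have hZ : IsClosed Z := IsLocalRing.isClosed_singleton_closedPoint A
    have hcl : EGA4.IsClosedAlong Z A := fun J hJ => by
      let O : (Spec (CommRingCat.of A)).Opens := EGA4.openCompl A J
      show Function.Bijective ((Spec (CommRingCat.of A)).presheaf.map (homOfLE (le_top : O ≤ ⊤)).op)
      have hO : O = ⊤ ∨ O = FEt.puncturedSpec A := by
        by_cases hc : IsLocalRing.closedPoint A ∈ O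
        · exact Or.inl (ParaFX.mem_closedPoint_eq_top hc)
        · refine Or.inr (Opens.ext (Set.ext fun p => ⟨fun hp he => hc ?_, fun hp => ?_⟩))
          · rw [Set.mem_singleton_iff] at he
            exact he ▸ hp
          · by_contra hpO
            exact hp (hJ (not_not.1 hpO))
      have key : ∀ O' : (Spec (CommRingCat.of A)).Opens, O = O' →
          Function.Bijective ((Spec (CommRingCat.of A)).presheaf.map (homOfLE (le_top : O' ≤ ⊤)).op) →
          Function.Bijective ((Spec (CommRingCat.of A)).presheaf.map (homOfLE (le_top : O ≤ ⊤)).op) := by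
        rintro _ rfl h'; exact h'
      rcases hO with hO | hO
      · refine key ⊤ hO ?_
        rw [← ConcreteCategory.isIso_iff_bijective]
        exact inferInstanceAs (IsIso ((Spec (CommRingCat.of A)).presheaf.map (𝟙 _)))
      · exact key _ hO hb
    exact ((Alg6.isClosedAlong_iff hZ.stableUnderSpecialization).1 hcl _ rfl).trans (depth_localization_maximal A).le
  · intro hd
    refine Hartogs.spec_bijective A _ fun p hp => ?_
    obtain rfl : p = IsLocalRing.closedPoint A := Set.mem_singleton_iff.1 (not_not.1 hp)
    exact hd.trans (depth_localization_maximal A).ge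

theorem isParafactorialPair_iff_stalks {X : Scheme.{u}} [IsLocallyNoetherian X] (Y : Closeds X) :
    ParaF.IsParafactorialPair X Y ↔ ∀ y : X, y ∈ Y → ParaF.IsParafactorialLocalRing (X.presheaf.stalk y) := by
  refine ⟨fun h y hy => ?_, fun h => ?_⟩
  · exact (ParaFX.isParafactorialLocalRing_iff _).2
      ⟨(bijective_punctured_iff _).2 (two_le_depth_of_pair Y h y hy), picTrivial_of_pair Y h y hy⟩
  · exact isParafactorialPair_of_local Y
      (fun y hy => (bijective_punctured_iff _).1 ((ParaFX.isParafactorialLocalRing_iff _).1 (h y hy)).1)
      (fun y hy => ((ParaFX.isParafactorialLocalRing_iff _).1 (h y hy)).2)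

end Groth.Agent.ParaExt
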