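import Groth.Agent.ParaExt.Key
import Groth.Agent.Pi1Ext.Spread
import Groth.Agent.ParaFX.Functions
import Groth.Agent.Hartogs.Basic

/-!
# A pair is parafactorial when the local rings along the closed set are
-/

set_option linter.style.haveILetI false
set_option backward.isDefEq.respectTransparency false
set_option backward.isDefEq.respectTransparency.types false

universe u

open CategoryTheory CategoryTheory.Limits AlgebraicGeometry TopologicalSpace Opposite
open Groth.Agent Groth.Agent.H23.PicMul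

noncomputable section

namespace Groth.Agent.ParaExt

variable {X : Scheme.{u}} [IsLocallyNoetherian X] (Y : Closeds X)

theorem cl_restrict' {A B : Scheme.{u}} (j : A ⟶ B) [IsOpenImmersion j] (L : B.Modules) :
    PicF.cl (L.restrict j) = PicF.pullCl j (PicF.cl L) :=
  cl_eq_iff.2 ⟨(Scheme.Modules.restrictFunctorIsoPullback j).app L⟩

theorem fnBij (hd : ∀ y : X, y ∈ Y → (2 : ℕ∞) ≤ LocCoh.depth (X.presheaf.stalk y) (X.presheaf.stalk y))
    (T : X.Opens) : ParaFX.FnBij (X.homOfLE (inf_le_left : T ⊓ Y.compl ≤ T)) :=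
  ParaFX.fnBij_homOfLE Y (fun O => Hartogs.restrict_bijective Y.compl
    (fun x hx => hd x (not_not.1 hx)) O) T

theorem sectBij (hd : ∀ y : X, y ∈ Y → (2 : ℕ∞) ≤ LocCoh.depth (X.presheaf.stalk y) (X.presheaf.stalk y))
    (T : X.Opens) {L : T.toScheme.Modules} (hL : PicF.IsInvertible L) :
    ParaFX.SectBij (X.homOfLE (inf_le_left : T ⊓ Y.compl ≤ T)) L :=
  ParaFX.sectBij_of_isFinLocFree (fnBij Y hd T) (H23.PullPush.isFinLocFree_of_isInvertible hL)

variable (hd : ∀ y : X, y ∈ Y → (2 : ℕ∞) ≤ LocCoh.depth (X.presheaf.stalk y) (X.presheaf.stalk y))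
  {V : X.Opens} (L : ((V ⊓ Y.compl : X.Opens) : Scheme.{u}).Modules)

/-- The module is trivial on the trace of the open `G`. -/
def Triv (G : X.Opens) : Prop :=
  ∃ h : G ≤ V, PicF.pullCl (X.homOfLE (inf_le_inf_right Y.compl h)) (PicF.cl L) = 1

/-- The direct image on the open `T`. -/
def push (T : X.Opens) (hT : T ≤ V) : T.toScheme.Modules :=
  (Scheme.Modules.pushforward (X.homOfLE (inf_le_left : T ⊓ Y.compl ≤ T))).obj
    (L.restrict (X.homOfLE (inf_le_inf_right Y.compl hT)))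

include hd in
theorem isInvertible_push (T : X.Opens) (hT : T ≤ V) (h : ∀ x : X, x ∈ T → ∃ G, Triv Y L G ∧ x ∈ G) :
    PicF.IsInvertible (push Y L T hT) := by
  intro y
  obtain ⟨G, ⟨hG, hG1⟩, hyG⟩ := h y.1 y.2
  let j := X.homOfLE (inf_le_left : T ⊓ Y.compl ≤ T)
  let S : T.toScheme.Opens := T.ι ⁻¹ᵁ G
  let j' := j ∣_ S
  let b := (j ⁻¹ᵁ S).ι
  let k := X.homOfLE (inf_le_inf_right Y.compl hT)
  refine ⟨S, hyG, ?_⟩
  obtain ⟨e⟩ := ParaFX.nonempty_restrict_pushforward_iso j S.ι j' b (morphismRestrict_ι j S).symm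
    (ParaFX.opensRange_restrict j S) (L.restrict k)
  have hb : PicF.cl ((L.restrict k).restrict b) = 1 := by
    have hsub : Set.range (b ≫ k) ⊆ Set.range (X.homOfLE (inf_le_inf_right Y.compl hG)) := by
      rintro _ ⟨z, rfl⟩
      have hz : (b ≫ k) z ∈ (X.homOfLE (inf_le_inf_right Y.compl hG)).opensRange := by
        rw [Scheme.opensRange_homOfLE]
        show (V ⊓ Y.compl).ι ((b ≫ k) z) ∈ G ⊓ Y.compl
        rw [← Scheme.Hom.comp_apply, Category.assoc, Scheme.homOfLE_ι]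
        refine ⟨?_, (b z).2.2⟩
        have hzS : T.ι (j (b z)) ∈ G := z.2
        rw [← Scheme.Hom.comp_apply, Scheme.homOfLE_ι] at hzS
        exact hzS
      exact hz
    rw [cl_restrict', cl_restrict', PicClLib.pullCl_comp,
      ← IsOpenImmersion.lift_fac _ (b ≫ k) hsub, ← PicClLib.pullCl_comp, hG1, pullCl_one]
  obtain ⟨eb⟩ : Nonempty ((L.restrict k).restrict b ≅ Coh.structureModule _) := cl_eq_iff.1 (hb.trans H23.PicMul.one_def)
  have hO : ParaFX.SectBij j' (Coh.structureModule S.toScheme) :=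
    ParaFX.sectBij_of_iso j' (Scheme.Modules.restrictUnitIso S.ι) (ParaFX.sectBij_restrict j S.ι j'
      (ParaFX.opensRange_restrict j S) (sectBij Y hd T InvX.isInvertible_structureModule))
  exact ⟨e ≪≫ (Scheme.Modules.pushforward j').mapIso (eb ≪≫ (Scheme.Modules.restrictUnitIso j').symm) ≪≫
    (ParaFX.isoPushforward j' hO).symm⟩

include hd in
theorem exists_triv (hL : PicF.IsInvertible L)
    (hp : ∀ y : X, y ∈ Y → y ∈ V → ParaF.PicTrivial (FEt.puncturedSpec (X.presheaf.stalk y) : Scheme.{u})) :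
    ∀ x : X, x ∈ V → ∃ G, Triv Y L G ∧ x ∈ G := by
  let Gs : X.Opens := sSup {G | Triv Y L G}
  have hGs : Gs ≤ V := sSup_le fun G hG => hG.1
  have hmem : ∀ x : X, x ∈ Gs ↔ ∃ G, Triv Y L G ∧ x ∈ G := fun x => Opens.mem_sSup
  have hU : V ⊓ Y.compl ≤ Gs := fun x hx => by
    obtain ⟨S, hS, ⟨eS⟩⟩ := hL ⟨x, hx⟩
    let G := (V ⊓ Y.compl).ι ''ᵁ S
    have hG : G ≤ V ⊓ Y.compl := (V ⊓ Y.compl).ι_image_le S
    refine (hmem x).2 ⟨G, ⟨hG.trans inf_le_left, ?_⟩, ⟨x, hx⟩, hS, rfl⟩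
    let m := X.homOfLE (inf_le_inf_right Y.compl (hG.trans inf_le_left))
    have hsub : Set.range m ⊆ Set.range S.ι := by
      rintro _ ⟨z, rfl⟩
      rw [Scheme.Opens.range_ι]
      obtain ⟨w, hw, hwz⟩ := z.2.1
      have e : w = m z := (V ⊓ Y.compl).ι.isOpenEmbedding.injective (hwz.trans (by
        rw [← Scheme.Hom.comp_apply, Scheme.homOfLE_ι]; rfl))
      exact e ▸ hw
    have h1 : PicF.pullCl S.ι (PicF.cl L) = 1 := by
      rw [← cl_restrict', H23.PicMul.one_def]; exact cl_eq_iff.2 ⟨eS⟩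
    show PicF.pullCl m (PicF.cl L) = 1
    rw [← IsOpenImmersion.lift_fac _ m hsub, ← PicClLib.pullCl_comp, h1, pullCl_one]
  suffices hV : V ≤ Gs from fun x hx => (hmem x).1 (hV hx)
  by_contra hne
  obtain ⟨v, hv, hvmin⟩ := Pi1Ext.Spread.exists_min_point (V.ι ⁻¹ᵁ Gs) fun e =>
    hne fun x hx => (e ▸ trivial : (⟨x, hx⟩ : V) ∈ V.ι ⁻¹ᵁ Gs)
  let x : X := V.ι v
  have hxV : x ∈ V := v.2
  have hxY : x ∈ Y := by
    by_contra hx
    exact hv (hU ⟨hxV, hx⟩)
  let f := X.fromSpecStalk x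
  have hpre : f ⁻¹ᵁ Gs = FEt.puncturedSpec (X.presheaf.stalk x) := by
    ext z
    have hc : f (IsLocalRing.closedPoint (X.presheaf.stalk x)) = x := Scheme.fromSpecStalk_closedPoint
    refine ⟨fun hz h => ?_, fun hz => ?_⟩
    · rw [Set.mem_singleton_iff] at h
      subst h
      exact hv (show x ∈ Gs from hc ▸ hz)
    · have hzx : f z ⤳ x := by
        exact ((IsLocalRing.specializes_closedPoint z).map f.continuous).trans (specializes_of_eq hc)
      have hzV : f z ∈ V := hzx.mem_open V.2 hxV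
      have hne : f z ≠ x := fun e => hz (Set.mem_singleton_iff.2
        (f.isEmbedding.injective (e.trans hc.symm)))
      exact hvmin ⟨f z, hzV⟩ (V.ι.isOpenEmbedding.isInducing.specializes_iff.1 hzx)
        (fun e => hne (congrArg V.ι e))
  have hP : PicF.IsInvertible (push Y L Gs hGs) := isInvertible_push Y hd L Gs hGs fun z hz => (hmem z).1 hz
  have htriv : PicF.pullCl (f ∣_ Gs) (PicF.cl (push Y L Gs hGs)) = 1 := by
    have hpt : ParaF.PicTrivial ((f ⁻¹ᵁ Gs : (Spec (X.presheaf.stalk x)).Opens) : Scheme.{u}) := by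
      rw [hpre]; exact hp x hxY hxV
    obtain ⟨e⟩ := hpt _ (PicClLib.isInvertible_pullback (f ∣_ Gs) hP)
    rw [H23.PicMul.one_def]
    exact cl_eq_iff.2 ⟨e⟩
  obtain ⟨W, hxW, hW⟩ := exists_pullCl_eq_one Gs _ hP htriv
  refine hv ((hmem x).2 ⟨W ⊓ V, ⟨inf_le_right, ?_⟩, hxW, hxV⟩)
  let j := X.homOfLE (inf_le_left : Gs ⊓ Y.compl ≤ Gs)
  let k := X.homOfLE (inf_le_inf_right Y.compl hGs)
  have hj : PicF.pullCl j (PicF.cl (push Y L Gs hGs)) = PicF.pullCl k (PicF.cl L) := by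
    rw [← cl_restrict', ← cl_restrict']
    exact cl_eq_iff.2 ⟨ParaFX.restrictPushforward j _⟩
  have h1 : (W ⊓ V) ⊓ Y.compl ≤ W ⊓ Gs := fun z hz => ⟨hz.1.1, hU ⟨hz.1.2, hz.2⟩⟩
  have h2 : (W ⊓ V) ⊓ Y.compl ≤ Gs ⊓ Y.compl := fun z hz => ⟨hU ⟨hz.1.2, hz.2⟩, hz.2⟩
  rw [← Scheme.homOfLE_homOfLE X h2 (inf_le_inf_right Y.compl hGs), ← PicClLib.pullCl_comp, ← hj,
    PicClLib.pullCl_comp, Scheme.homOfLE_homOfLE,
    ← Scheme.homOfLE_homOfLE X h1 inf_le_right, ← PicClLib.pullCl_comp, hW, pullCl_one]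

omit L in
include hd in
/-- Depth two and trivial Picard groups of the punctured local spectra along `Y` give parafactoriality. -/
theorem isParafactorialPair_of_local
    (hp : ∀ y : X, y ∈ Y → ParaF.PicTrivial (FEt.puncturedSpec (X.presheaf.stalk y) : Scheme.{u})) :
    ParaF.IsParafactorialPair X Y := by
  refine ParaFX.isParafactorialPair_of_good Y fun T => ⟨fun L hL => sectBij Y hd T hL, fun L hL => ?_⟩
  have hinv := isInvertible_push Y hd L T le_rfl (exists_triv Y hd L hL fun y hy _ => hp y hy)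
  refine H23.PicMul.isInvertible_of_iso ((Scheme.Modules.pushforward _).mapIso ?_) hinv
  exact (Scheme.Modules.restrictFunctorCongr (Scheme.homOfLE_rfl X (T ⊓ Y.compl))).app L ≪≫
    Scheme.Modules.restrictFunctorId.app L

end Groth.Agent.ParaExt
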