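import Groth.Agent.S4790
import Groth.Agent.Pi1Ext.SpreadLim
import Groth.Agent.RGLib.Lim8GenP
import Groth.Agent.PicClLib.Basic
import Groth.Agent.H23.PicMul
import Groth.Agent.QCoh.LocFree
import Groth.Agent.NormX.Compactify

/-!
# Triviality of an invertible module spreads out from the spectrum of a local ring
-/

set_option linter.style.haveILetI false
set_option backward.isDefEq.respectTransparency false
set_option backward.isDefEq.respectTransparency.types false

universe u

open CategoryTheory CategoryTheory.Limits AlgebraicGeometry TopologicalSpace Opposite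
open Groth.Agent Groth.Agent.H23.PicMul

noncomputable section

namespace Groth.Agent.ParaExt

open Pi1Ext.SpreadLim RGLib.Lim8

variable (X : Scheme.{u}) (x : X)

/-- The affine neighbourhoods over `X`. -/
def nbhds : Nbhd X x ⥤ Over X where
  obj W := Over.mk (toX X x W)
  map h := Over.homMk ((specs X x).map h) (map_toX X x h)
  map_id W := Over.OverMorphism.ext ((specs X x).map_id W)
  map_comp f g := Over.OverMorphism.ext ((specs X x).map_comp f g)

/-- The spectrum of the local ring over `X`, as a cone. -/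
def nbhdCone : Cone (nbhds X x) where
  pt := Over.mk (X.fromSpecStalk x)
  π :=
    { app := fun W => Over.homMk ((Pi1Ext.SpreadLim.cone X x).π.app W) (π_toX X x W)
      naturality := fun W W' h => Over.OverMorphism.ext ((Pi1Ext.SpreadLim.cone X x).π.naturality h) }

def isLimitNbhdCone : IsLimit ((Over.forget X).mapCone (nbhdCone X x)) :=
  Pi1Ext.SpreadLim.isLimit X x

variable {X x}

/-- If an invertible module on an open `G` is trivial on the trace of `G` on the spectrum of the local
ring at `x`, it is trivial on the trace of `G` on a neighbourhood of `x`. -/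
theorem exists_pullCl_eq_one [IsLocallyNoetherian X] (G : X.Opens) (L : G.toScheme.Modules)
    (hL : PicF.IsInvertible L)
    (h : PicF.pullCl (X.fromSpecStalk x ∣_ G) (PicF.cl L) = 1) :
    ∃ W : X.Opens, x ∈ W ∧
      PicF.pullCl (X.homOfLE (inf_le_right : W ⊓ G ≤ G)) (PicF.cl L) = 1 := by
  let D := nbhds X x
  let c := nbhdCone X x
  obtain ⟨hbc⟩ := nonempty_isLimit_bcCone G.ι D c (isLimitNbhdCone X x)
  have hD : ∀ W, IsAffine (D.obj W).left := fun W => inferInstanceAs (IsAffine (Spec Γ(X, W.1)))
  have := isAffineHom_bc G.ι D hD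
  obtain ⟨W₀⟩ := IsCofiltered.nonempty (C := Nbhd X x)
  haveI : IsLocallyNoetherian (D.obj W₀).left := by
    haveI : IsOpenImmersion (D.obj W₀).hom := inferInstanceAs (IsOpenImmersion (toX X x W₀))
    exact LocallyOfFiniteType.isLocallyNoetherian (D.obj W₀).hom
  haveI : IsLocallyNoetherian ((bc G.ι D).obj W₀) :=
    LocallyOfFiniteType.isLocallyNoetherian (pullback.snd G.ι (D.obj W₀).hom)
  haveI : CompactSpace ((bc G.ι D).obj W₀) := compactSpace_bc G.ι D hD W₀
  let p := pullback.fst G.ι (D.obj W₀).hom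
  have hLp : PicF.IsInvertible ((Scheme.Modules.pullback p).obj L) := PicClLib.isInvertible_pullback p hL
  haveI : Coh.IsQCoh ((Scheme.Modules.pullback p).obj L) :=
    QCoh.isQCoh_of_isFinLocFree (H23.PullPush.isFinLocFree_of_isInvertible hLp)
  haveI : Coh.IsQCoh (Coh.structureModule ((bc G.ι D).obj W₀)) :=
    QCoh.isQCoh_of_isFinLocFree (H23.PullPush.isFinLocFree_of_isInvertible InvX.isInvertible_structureModule)
  have hlim : Nonempty ((Scheme.Modules.pullback ((bcCone G.ι D c).π.app W₀)).obj ((Scheme.Modules.pullback p).obj L) ≅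
      (Scheme.Modules.pullback ((bcCone G.ι D c).π.app W₀)).obj (Coh.structureModule _)) := by
    refine cl_eq_iff.1 ?_
    show PicF.pullCl (bcMap G.ι (c.π.app W₀)) (PicF.pullCl p (PicF.cl L)) =
      PicF.pullCl (bcMap G.ι (c.π.app W₀)) (PicF.cl (Coh.structureModule _))
    rw [PicClLib.pullCl_comp, bcMap_fst, ← H23.PicMul.one_def, pullCl_one]
    let i := (isPullback_morphismRestrict (X.fromSpecStalk x) G).isoPullback
    have hi : i.inv ≫ (X.fromSpecStalk x ∣_ G) = pullback.fst G.ι c.pt.hom :=
      (isPullback_morphismRestrict (X.fromSpecStalk x) G).isoPullback_inv_fst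
    show PicF.pullCl (pullback.fst G.ι c.pt.hom) (PicF.cl L) = 1
    rw [← hi, ← PicClLib.pullCl_comp, h, pullCl_one]
  obtain ⟨W, φ, hW⟩ := (S4790.result (bc G.ι D) (bcCone G.ι D c) hbc W₀ _ _
    (QCoh.isFP_of_isFinLocFree (H23.PullPush.isFinLocFree_of_isInvertible hLp))
    (QCoh.isFP_of_isFinLocFree (H23.PullPush.isFinLocFree_of_isInvertible InvX.isInvertible_structureModule))).1 hlim
  have hW' := cl_eq_iff.2 hW
  change PicF.pullCl (bcMap G.ι (D.map φ)) (PicF.pullCl p (PicF.cl L)) =
      PicF.pullCl (bcMap G.ι (D.map φ)) (PicF.cl (Coh.structureModule _)) at hW'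
  rw [PicClLib.pullCl_comp, bcMap_fst, ← H23.PicMul.one_def, pullCl_one] at hW'
  refine ⟨W.1, W.2.2, ?_⟩
  have hw : X.homOfLE (inf_le_right : W.1 ⊓ G ≤ G) ≫ G.ι =
      (X.homOfLE inf_le_left ≫ W.2.1.isoSpec.hom) ≫ (D.obj W).hom := by
    rw [Scheme.homOfLE_ι, Category.assoc]
    show _ = _ ≫ W.2.1.isoSpec.hom ≫ W.2.1.fromSpec
    rw [W.2.1.isoSpec_hom_fromSpec, Scheme.homOfLE_ι]
  rw [← pullback.lift_fst _ _ hw, ← PicClLib.pullCl_comp, hW', pullCl_one]

end Groth.Agent.ParaExt
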