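import Groth.Agent.ParaExt.Extend
import Groth.Agent.S4788
import Groth.Agent.RGLib.Lim8LocFree
import Groth.Agent.Lib.InvEnd
import Groth.Agent.Lib.CurveDualPrep

/-!
# Parafactorial pairs and the local rings along the closed set
-/

set_option linter.style.haveILetI false
set_option backward.isDefEq.respectTransparency false
set_option backward.isDefEq.respectTransparency.types false

universe u

open CategoryTheory CategoryTheory.Limits AlgebraicGeometry TopologicalSpace Opposite
open Groth.Agent Groth.Agent.H23.PicMul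

noncomputable section

namespace Groth.Agent.ParaExt

variable {X : Scheme.{u}} [IsLocallyNoetherian X]

/-- The local rings along the closed set of a parafactorial pair have depth at least two. -/
theorem two_le_depth_of_pair (Y : Closeds X) (h : ParaF.IsParafactorialPair X Y) (y : X) (hy : y ∈ Y) :
    (2 : ℕ∞) ≤ LocCoh.depth (X.presheaf.stalk y) (X.presheaf.stalk y) := by
  obtain ⟨_, ⟨V, hV, rfl⟩, hyV, -⟩ := X.isBasis_affineOpens.exists_subset_of_mem_open (Set.mem_univ y) isOpen_univ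
  let A := Γ(X, V)
  haveI : IsNoetherianRing A := IsLocallyNoetherian.component_noetherian ⟨V, hV⟩
  let Z : Set (PrimeSpectrum A) := {p | hV.fromSpec p ∈ Y}
  have hZ : IsClosed Z := Y.isClosed.preimage hV.fromSpec.continuous
  have hcl : EGA4.IsClosedAlong Z A := fun J hJ => by
    let O : (Spec Γ(X, V)).Opens := EGA4.openCompl A J
    let O' := hV.fromSpec ''ᵁ O
    have hO' : O' ≤ V := by
      have := hV.fromSpec.image_le_opensRange O
      rwa [hV.opensRange_fromSpec] at this
    let Y' : Closeds X := Y ⊓ O'.compl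
    have heq : V ⊓ Y'.compl = O' := by
      ext x
      refine ⟨fun ⟨hxV, hx⟩ => ?_, fun hx => ⟨hO' hx, fun h' => h'.2 hx⟩⟩
      by_contra hxO
      obtain ⟨p, rfl⟩ : x ∈ Set.range hV.fromSpec := by rw [hV.range_fromSpec]; exact hxV
      refine hx ⟨hJ ?_, hxO⟩
      by_contra hp
      exact hxO ⟨p, hp, rfl⟩
    have key : ∀ W : X.Opens, W = O' → ∀ hW : W ≤ V, Function.Bijective (X.presheaf.map (homOfLE hW).op) →
        Function.Bijective (X.presheaf.map (homOfLE hO').op) := by
      rintro _ rfl _ h'; exact h'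
    have hb := key _ heq inf_le_left
      (ParaFX.bijective_of_pair Y' (ParaFX.isParafactorialPair_mono Y inf_le_left h) V)
    have hsq := hV.fromSpec.naturality (homOfLE hO').op
    have i1 : IsIso (hV.fromSpec.app V) := hV.fromSpec.isIso_app V (by rw [hV.opensRange_fromSpec])
    have i2 : IsIso (hV.fromSpec.app O') :=
      hV.fromSpec.isIso_app O' (by rw [hV.opensRange_fromSpec]; exact hO')
    haveI := (ConcreteCategory.isIso_iff_bijective _).2 hb
    haveI : IsIso (X.presheaf.map (homOfLE hO').op ≫ hV.fromSpec.app O') := inferInstance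
    haveI : IsIso (hV.fromSpec.app V ≫
        (Spec Γ(X, V)).presheaf.map ((Opens.map hV.fromSpec.base).map (homOfLE hO')).op) := by
      have e : hV.fromSpec.app V ≫ (Spec Γ(X, V)).presheaf.map ((Opens.map hV.fromSpec.base).map (homOfLE hO')).op =
          X.presheaf.map (homOfLE hO').op ≫ hV.fromSpec.app O' := hsq.symm
      rw [e]
      assumption
    haveI hiso := IsIso.of_isIso_comp_left (hV.fromSpec.app V)
      ((Spec Γ(X, V)).presheaf.map ((Opens.map hV.fromSpec.base).map (homOfLE hO')).op)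
    show Function.Bijective ((Spec Γ(X, V)).presheaf.map (homOfLE (le_top : O ≤ ⊤)).op)
    have hpre : hV.fromSpec ⁻¹ᵁ O' = O := hV.fromSpec.preimage_image_eq O
    rw [← ConcreteCategory.isIso_iff_bijective,
      show (homOfLE (le_top : O ≤ ⊤)).op = (eqToHom hV.fromSpec_preimage_self).op ≫
        ((Opens.map hV.fromSpec.base).map (homOfLE hO')).op ≫ (eqToHom hpre.symm).op from Subsingleton.elim _ _,
      Functor.map_comp, Functor.map_comp]
    infer_instance
  have hp : (hV.primeIdealOf ⟨y, hyV⟩) ∈ Z := by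
    show hV.fromSpec _ ∈ Y
    rw [hV.fromSpec_primeIdealOf]
    exact hy
  exact (((Alg6.isClosedAlong_iff hZ.stableUnderSpecialization).1 hcl _ hp).trans
    (Hartogs.depth_stalk_eq hV y hyV).le)

/-- The punctured local spectra along the closed set of a parafactorial pair have trivial Picard groups. -/
theorem picTrivial_of_pair (Y : Closeds X) (h : ParaF.IsParafactorialPair X Y) (y : X) (hy : y ∈ Y) :
    ParaF.PicTrivial (FEt.puncturedSpec (X.presheaf.stalk y) : Scheme.{u}) := by
  let Y' : Closeds X := ⟨closure {y}, isClosed_closure⟩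
  have hY' : Y' ≤ Y := closure_minimal (Set.singleton_subset_iff.2 hy) Y.isClosed
  have h' := ParaFX.isParafactorialPair_mono Y hY' h
  let G : X.Opens := Y'.compl
  let f := X.fromSpecStalk y
  have hc : f (IsLocalRing.closedPoint (X.presheaf.stalk y)) = y := Scheme.fromSpecStalk_closedPoint
  have hpre : f ⁻¹ᵁ G = FEt.puncturedSpec (X.presheaf.stalk y) := by
    ext z
    refine ⟨fun hz he => ?_, fun hz hz' => ?_⟩
    · rw [Set.mem_singleton_iff] at he
      subst he
      exact hz (show f _ ∈ closure {y} from hc.symm ▸ subset_closure rfl)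
    · have h1 : y ⤳ f z := specializes_iff_mem_closure.2 hz'
      have h2 : f z ⤳ y :=
        ((IsLocalRing.specializes_closedPoint z).map f.continuous).trans (specializes_of_eq hc)
      exact hz (Set.mem_singleton_iff.2 (f.isEmbedding.injective ((h2.antisymm h1).eq.trans hc.symm)))
  rw [← hpre]
  intro N hN
  let D := nbhds X y
  let c := nbhdCone X y
  obtain ⟨hbc⟩ := RGLib.Lim8.nonempty_isLimit_bcCone G.ι D c (isLimitNbhdCone X y)
  have hD : ∀ W, IsAffine (D.obj W).left := fun W => inferInstanceAs (IsAffine (Spec Γ(X, W.1)))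
  have := RGLib.Lim8.isAffineHom_bc G.ι D hD
  obtain ⟨W₀⟩ := IsCofiltered.nonempty (C := Pi1Ext.SpreadLim.Nbhd X y)
  haveI hnoeth : ∀ W, IsLocallyNoetherian ((RGLib.Lim8.bc G.ι D).obj W) := fun W => by
    haveI : IsOpenImmersion (D.obj W).hom := inferInstanceAs (IsOpenImmersion (Pi1Ext.SpreadLim.toX X y W))
    haveI : IsLocallyNoetherian (D.obj W).left := LocallyOfFiniteType.isLocallyNoetherian (D.obj W).hom
    exact LocallyOfFiniteType.isLocallyNoetherian (pullback.snd G.ι (D.obj W).hom)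
  haveI hcpt : ∀ W, CompactSpace ((RGLib.Lim8.bc G.ι D).obj W) := RGLib.Lim8.compactSpace_bc G.ι D hD
  let i := (isPullback_morphismRestrict f G).isoPullback
  let N' : (pullback G.ι c.pt.hom).Modules := (Scheme.Modules.pullback i.inv).obj N
  have hN' : PicF.IsInvertible N' := PicClLib.isInvertible_pullback i.inv hN
  haveI : Coh.IsQCoh N' := QCoh.isQCoh_of_isFinLocFree (H23.PullPush.isFinLocFree_of_isInvertible hN')
  obtain ⟨W₁, -, F, hFq, hF, ⟨eF⟩⟩ := S4788.result (RGLib.Lim8.bc G.ι D) (RGLib.Lim8.bcCone G.ι D c) hbc W₀ N'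
    (QCoh.isFP_of_isFinLocFree (H23.PullPush.isFinLocFree_of_isInvertible hN'))
  haveI := hFq
  have h1 : FlatMod.IsFinLocFreeOfRank 1 ((Scheme.Modules.pullback ((RGLib.Lim8.bcCone G.ι D c).π.app W₁)).obj F) :=
    (ConsPropLib.isFinLocFreeOfRank_iso eF).2 (InvEnd.isFinLocFreeOfRank_one hN')
  obtain ⟨W, φ, hW⟩ := (RGLib.Lim8.isFinLocFreeOfRank_iff (RGLib.Lim8.bc G.ι D) (RGLib.Lim8.bcCone G.ι D c) hbc hF 1).1 h1
  let V := W.1
  let E := (Scheme.Modules.pullback ((RGLib.Lim8.bc G.ι D).map φ)).obj F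
  have hw : X.homOfLE (inf_le_right : V ⊓ G ≤ G) ≫ G.ι =
      (X.homOfLE inf_le_left ≫ W.2.1.isoSpec.hom) ≫ (D.obj W).hom := by
    rw [Scheme.homOfLE_ι, Category.assoc]
    show _ = _ ≫ W.2.1.isoSpec.hom ≫ W.2.1.fromSpec
    rw [W.2.1.isoSpec_hom_fromSpec, Scheme.homOfLE_ι]
  let s : ((V ⊓ G : X.Opens) : Scheme.{u}) ⟶ pullback G.ι (D.obj W).hom := pullback.lift _ _ hw
  have hr0 : Set.range (pullback.fst G.ι (D.obj W).hom ≫ G.ι) ⊆ Set.range (V ⊓ G).ι := by
    rintro _ ⟨z, rfl⟩
    rw [Scheme.Opens.range_ι]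
    refine ⟨?_, (pullback.fst G.ι (D.obj W).hom z).2⟩
    rw [pullback.condition]
    have : (D.obj W).hom (pullback.snd G.ι (D.obj W).hom z) ∈ Set.range (Pi1Ext.SpreadLim.toX X y W) := ⟨_, rfl⟩
    rw [Pi1Ext.SpreadLim.range_toX] at this
    exact this
  let r : pullback G.ι (D.obj W).hom ⟶ ((V ⊓ G : X.Opens) : Scheme.{u}) := IsOpenImmersion.lift _ _ hr0
  have hrι : r ≫ (V ⊓ G).ι = pullback.fst G.ι (D.obj W).hom ≫ G.ι := IsOpenImmersion.lift_fac _ _ _
  have hrs : r ≫ s = 𝟙 _ := by
    haveI : IsOpenImmersion (D.obj W).hom := inferInstanceAs (IsOpenImmersion (Pi1Ext.SpreadLim.toX X y W))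
    refine pullback.hom_ext ?_ ?_
    · rw [Category.id_comp, Category.assoc, pullback.lift_fst, ← cancel_mono G.ι, Category.assoc, Scheme.homOfLE_ι, hrι]
    · rw [Category.id_comp, Category.assoc, pullback.lift_snd, ← cancel_mono (D.obj W).hom, Category.assoc, ← hw,
        Scheme.homOfLE_ι, hrι, pullback.condition]
  obtain ⟨M, hM, ⟨eM⟩⟩ := (h' V).2 ((Scheme.Modules.pullback s).obj E)
    (PicClLib.isInvertible_pullback s (CurveDuality.isInvertible_of_rank_one hW))
  have hV0 : Set.range f ⊆ Set.range V.ι := by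
    rintro _ ⟨z, rfl⟩
    rw [Scheme.Opens.range_ι]
    exact (((IsLocalRing.specializes_closedPoint z).map f.continuous).trans (specializes_of_eq hc)).mem_open V.2 W.2.2
  let fV := IsOpenImmersion.lift V.ι f hV0
  have hM1 : PicF.pullCl fV (PicF.cl M) = 1 := by
    obtain ⟨e⟩ := ParaFX.picTrivial_spec_local (X.presheaf.stalk y) _ (PicClLib.isInvertible_pullback fV hM)
    rw [H23.PicMul.one_def]
    exact cl_eq_iff.2 ⟨e⟩
  let π := (RGLib.Lim8.bcCone G.ι D c).π.app W
  have hcls : PicF.cl N' = PicF.pullCl π (PicF.cl E) := by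
    refine (cl_eq_iff.2 ⟨eF⟩).symm.trans ?_
    show _ = PicF.pullCl π (PicF.pullCl ((RGLib.Lim8.bc G.ι D).map φ) (PicF.cl F))
    rw [PicClLib.pullCl_comp, Cone.w]
    rfl
  have hEM : PicF.pullCl s (PicF.cl E) = PicF.pullCl (X.homOfLE (inf_le_left : V ⊓ G ≤ V)) (PicF.cl M) := by
    rw [← cl_restrict' (X.homOfLE (inf_le_left : V ⊓ G ≤ V))]
    exact cl_eq_iff.2 ⟨eM.symm⟩
  have hfin : PicF.cl N' = 1 := by
    have e0 : PicF.cl E = PicF.pullCl r (PicF.pullCl s (PicF.cl E)) := by
      rw [PicClLib.pullCl_comp, hrs, PicClLib.pullCl_id]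
    rw [hcls, e0, hEM, PicClLib.pullCl_comp, PicClLib.pullCl_comp]
    have hm : (π ≫ r) ≫ X.homOfLE (inf_le_left : V ⊓ G ≤ V) = pullback.snd G.ι c.pt.hom ≫ fV := by
      rw [← cancel_mono V.ι, Category.assoc, Category.assoc, Scheme.homOfLE_ι, hrι, Category.assoc,
        IsOpenImmersion.lift_fac]
      show _ = pullback.snd G.ι c.pt.hom ≫ c.pt.hom
      rw [← pullback.condition, ← Category.assoc]
      exact congrArg (· ≫ G.ι) (RGLib.Lim8.bcMap_fst G.ι (c.π.app W))
    rw [hm, ← PicClLib.pullCl_comp, hM1, pullCl_one]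
  refine cl_eq_iff.1 ?_
  rw [← H23.PicMul.one_def]
  calc PicF.cl N = PicF.pullCl i.hom (PicF.cl N') := by
        rw [show PicF.cl N' = PicF.pullCl i.inv (PicF.cl N) from rfl, PicClLib.pullCl_comp, i.hom_inv_id,
          PicClLib.pullCl_id]
    _ = 1 := by rw [hfin, pullCl_one]

end Groth.Agent.ParaExt
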